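import Cfsg.Agent.H238.Base
import Cfsg.Agent.H238.Quad
import Cfsg.Agent.H245.RedTwo
import Cfsg.Agent.Lib.LocalCore
import Cfsg.Agent.Lib.CoprimeHyperplane

/-!
# Parabolic characteristic `p`: passing to `G / O_{p'}(G)` (helper226)

* `cp_centralizer_of_parabolic` : `C_G(z)` has characteristic `p` for `z` of order `p` centralised by a Sylow subgroup;
* `centralizer_mk`, `cp_mk` : `C_{G/W}(zW)` for `W` a normal `p'`-subgroup;
* `core` : the configuration `H ≥ S`, `L = F*(H)`, `O_{p'}(G) = 1` gives `F*(G) = K` simple with `Emb p L z` in `K`;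
* `main` : the same in `G / O_{p'}(G)`.
-/

set_option autoImplicit false
set_option linter.unusedSectionVars false

namespace Cfsg.Agent.H226.ParRed

open Subgroup Cfsg
open Cfsg.Agent.H239.CharPLocal (CP)
open Cfsg.Agent.H238 (Emb Quad Loc)
open scoped commutatorElement

universe u

/-- a group of characteristic `p` has no nontrivial `p'`-subgroup normalised by `O_p` -/
theorem eq_bot_of_cp {p : ℕ} [Fact p.Prime] {X : Type u} [Group X] [Finite X] (h : CP p X) {W : Subgroup X}
    (hn : pCore p X ≤ normalizer (W : Set X)) (hW : ¬ p ∣ Nat.card W) : W = ⊥ := by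
  have hP : IsPGroup p (pCore p X) := Lib.Cores.pCore_isPGroup (p := p)
  have hPn : (pCore p X).Normal := Lib.Cores.pCore_normal (G := X) p
  have hd : Disjoint W (pCore p X) := by
    rw [disjoint_iff]
    have h3 : Nat.card ↥(W ⊓ pCore p X) ∣ Nat.card W := card_dvd_of_le inf_le_left
    have h4 : IsPGroup p ↥(W ⊓ pCore p X) := hP.to_le inf_le_right
    obtain ⟨n, hn⟩ := IsPGroup.iff_card.1 h4
    rw [← card_eq_one, hn]
    rcases Nat.eq_zero_or_pos n with h5 | h5
    · rw [h5, pow_zero]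
    · exfalso
      apply hW
      rw [hn] at h3
      exact (dvd_pow_self p h5.ne').trans h3
  have h1 : W ≤ pCore p X := by
    refine le_trans ?_ h
    intro x hx
    rw [mem_centralizer_iff]
    intro u hu
    exact ((Lib.MinNormal.commute_of_disjoint (by rw [normalizer_eq_top_iff.2 hPn]; exact le_top)
      hn hd hx hu).eq).symm
  rw [eq_bot_iff]
  intro x hx
  exact (disjoint_iff.1 hd).le ⟨hx, h1 hx⟩

variable {G : Type u} [Group G] [Finite G] {p : ℕ} [hp : Fact p.Prime]

/-- the same inside `G` -/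
theorem eq_bot_of_cp_le {C W : Subgroup G} (h : CP p ↥C) (hWC : W ≤ C)
    (hn : (pCore p ↥C).map C.subtype ≤ normalizer (W : Set G)) (hW : ¬ p ∣ Nat.card W) : W = ⊥ := by
  have h1 : W.subgroupOf C = ⊥ := by
    refine eq_bot_of_cp h ?_ ?_
    · intro x hx
      have h2 := hn ⟨x, hx, rfl⟩
      rw [mem_normalizer_iff] at h2 ⊢
      intro y
      rw [mem_subgroupOf, mem_subgroupOf]
      exact h2 y
    · rw [Nat.card_congr (subgroupOfEquivOfLe hWC).toEquiv]
      exact hW
  rw [subgroupOf_eq_bot, disjoint_iff, inf_eq_left.2 hWC] at h1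
  exact h1

theorem isPGroup_zpowers {z : G} (hz : orderOf z = p) : IsPGroup p (zpowers z) :=
  IsPGroup.of_card (n := 1) (by rw [Nat.card_zpowers, hz, pow_one])

theorem zpowers_ne_bot {z : G} (hz : orderOf z = p) : zpowers z ≠ ⊥ := by
  intro h
  rw [zpowers_eq_bot] at h
  rw [h, orderOf_one] at hz
  exact hp.out.one_lt.ne hz

theorem centralizer_le_normalizer_zpowers (z : G) :
    centralizer ({z} : Set G) ≤ normalizer ((zpowers z : Subgroup G) : Set G) := by
  refine le_trans ?_ (Subgroup.centralizer_le_normalizer _)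
  intro x hx
  rw [mem_centralizer_singleton_iff] at hx
  rw [mem_centralizer_iff]
  rintro y ⟨k, rfl⟩
  have h : Commute x z := hx
  exact ((h.zpow_right k).eq).symm

/-- `C_G(z)` has characteristic `p`. -/
theorem cp_centralizer_of_cp_normalizer {z : G} (h : CP p ↥(normalizer ((zpowers z : Subgroup G) : Set G))) :
    CP p ↥(centralizer ({z} : Set G)) := by
  have hle := centralizer_le_normalizer_zpowers z
  have hn : ((centralizer ({z} : Set G)).subgroupOf (normalizer ((zpowers z : Subgroup G) : Set G))).Normal := by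
    constructor
    intro c hc g
    rw [mem_subgroupOf, mem_centralizer_singleton_iff] at hc ⊢
    have h1 : ∃ k : ℤ, (g : G)⁻¹ * z * g = z ^ k := by
      have h2 := (mem_normalizer_iff.1 (inv_mem g.2) z).1 (mem_zpowers z)
      rw [inv_inv] at h2
      obtain ⟨k, hk⟩ := h2
      exact ⟨k, hk.symm⟩
    obtain ⟨k, hk⟩ := h1
    have h3 : (c : G) * z ^ k = z ^ k * c := ((show Commute (c : G) z from hc).zpow_right k).eq
    rw [← hk] at h3
    change (g : G) * c * (g : G)⁻¹ * z = z * ((g : G) * c * (g : G)⁻¹)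
    calc (g : G) * c * (g : G)⁻¹ * z = g * (c * ((g : G)⁻¹ * z * g)) * (g : G)⁻¹ := by group
      _ = g * ((g : G)⁻¹ * z * g * c) * (g : G)⁻¹ := by rw [h3]
      _ = z * ((g : G) * c * (g : G)⁻¹) := by group
  exact (h.normal _).of_equiv (subgroupOfEquivOfLe hle)

/-- `C_G(z)` has characteristic `p`, `z` of order `p` centralised by a Sylow `p`-subgroup. -/
theorem cp_centralizer_of_parabolic (hpar : IsOfParabolicCharacteristic p G) (S : Sylow p G) {z : G}
    (hz : orderOf z = p) (hzc : (S : Subgroup G) ≤ centralizer ({z} : Set G)) :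
    CP p ↥(centralizer ({z} : Set G)) :=
  cp_centralizer_of_cp_normalizer (hpar (zpowers z) (isPGroup_zpowers hz) (zpowers_ne_bot hz)
    ⟨S, hzc.trans (centralizer_le_normalizer_zpowers z)⟩)

/-- local characteristic `p` -/
theorem cp_centralizer_of_local (hloc : IsOfLocalCharacteristic p G) {z : G} (hz : orderOf z = p) :
    CP p ↥(centralizer ({z} : Set G)) :=
  cp_centralizer_of_cp_normalizer (hloc.2 (zpowers z) (isPGroup_zpowers hz) (zpowers_ne_bot hz))

/-- `z` acts without fixed points on a normal `p'`-subgroup -/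
theorem inf_centralizer_eq_bot {W : Subgroup G} (hWn : W.Normal) (hW : ¬ p ∣ Nat.card W) {z : G}
    (h : CP p ↥(centralizer ({z} : Set G))) : W ⊓ centralizer ({z} : Set G) = ⊥ := by
  refine eq_bot_of_cp_le h inf_le_right ?_ ?_
  · refine le_trans ?_ (Lib.MinNormal.le_normalizer_inf (K := centralizer ({z} : Set G)) ?_ (le_normalizer))
    · rintro _ ⟨y, -, rfl⟩
      exact y.2
    · rw [normalizer_eq_top_iff.2 hWn]
      exact le_top
  · intro h1
    exact hW (h1.trans (card_dvd_of_le inf_le_left))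

/-- the centraliser of `zW` in `G/W` -/
theorem centralizer_mk (W : Subgroup G) [W.Normal] (hW : (Nat.card W).Coprime p) {z : G} (hz : orderOf z = p) :
    centralizer ({(QuotientGroup.mk' W z)} : Set (G ⧸ W)) =
      (centralizer ({z} : Set G)).map (QuotientGroup.mk' W) := by
  apply le_antisymm
  · intro y hy
    obtain ⟨g, rfl⟩ := QuotientGroup.mk'_surjective W y
    rw [mem_centralizer_singleton_iff, ← map_mul, ← map_mul] at hy
    have h1 : g * z * g⁻¹ * z⁻¹ ∈ W := by
      rw [← QuotientGroup.ker_mk' W, MonoidHom.mem_ker]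
      simp only [map_mul, map_inv] at hy ⊢
      rw [hy]
      group
    have h2 : ∀ x ∈ zpowers z, g * x * g⁻¹ ∈ zpowers z ⊔ W := by
      rintro _ ⟨k, rfl⟩
      have h3 : g * z * g⁻¹ ∈ zpowers z ⊔ W := by
        have : g * z * g⁻¹ = (g * z * g⁻¹ * z⁻¹) * z := by group
        rw [this]
        exact mul_mem (le_sup_right (a := zpowers z) h1) (le_sup_left (b := W) (mem_zpowers z))
      have h4 : g * z ^ k * g⁻¹ = (g * z * g⁻¹) ^ k := by
        rw [conj_zpow]
      change g * z ^ k * g⁻¹ ∈ _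
      rw [h4]
      exact zpow_mem h3 k
    obtain ⟨n, hn, hng⟩ := Lib.LocalCore.exists_mul_mem_normalizer p W (zpowers z) hW (isPGroup_zpowers hz) h2
    refine ⟨n * g, ?_, ?_⟩
    · have h5 := (mem_normalizer_iff.1 hng z).1 (mem_zpowers z)
      have h6 : n * g * z * (n * g)⁻¹ * z⁻¹ ∈ zpowers z := mul_mem h5 (inv_mem (mem_zpowers z))
      have h7 : n * g * z * (n * g)⁻¹ * z⁻¹ ∈ W := by
        have : n * g * z * (n * g)⁻¹ * z⁻¹ = n * (g * z * g⁻¹ * z⁻¹) * (z * n⁻¹ * z⁻¹) := by group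
        rw [this]
        exact mul_mem (mul_mem hn h1) (Normal.conj_mem inferInstance _ (inv_mem hn) z)
      have hd : Disjoint (zpowers z) W := by
        refine disjoint_of_coprime_natCard ?_
        rw [Nat.card_zpowers, hz]
        exact hW.symm
      have h8 := Subgroup.disjoint_def.1 hd h6 h7
      rw [SetLike.mem_coe, mem_centralizer_singleton_iff]
      rw [mul_inv_eq_one, mul_inv_eq_iff_eq_mul] at h8
      exact h8
    · rw [map_mul]
      have : QuotientGroup.mk' W n = 1 := by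
        rw [← MonoidHom.mem_ker, QuotientGroup.ker_mk']
        exact hn
      rw [this, one_mul]
  · rintro _ ⟨y, hy, rfl⟩
    rw [SetLike.mem_coe, mem_centralizer_singleton_iff] at hy
    rw [mem_centralizer_singleton_iff, ← map_mul, ← map_mul, hy]

/-- `C_{G/W}(zW)` has characteristic `p` -/
theorem cp_mk (W : Subgroup G) [hWn : W.Normal] (hW : (Nat.card W).Coprime p) {z : G} (hz : orderOf z = p)
    (h : CP p ↥(centralizer ({z} : Set G))) :
    CP p ↥(centralizer ({(QuotientGroup.mk' W z)} : Set (G ⧸ W))) := by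
  have hW' : ¬ p ∣ Nat.card W := fun h1 => hp.out.one_lt.ne' (Nat.eq_one_of_dvd_coprimes hW h1 dvd_rfl)
  have h0 := inf_centralizer_eq_bot hWn hW' h
  let f : ↥(centralizer ({z} : Set G)) →* G ⧸ W := (QuotientGroup.mk' W).comp (centralizer ({z} : Set G)).subtype
  have hf : Function.Injective f := by
    rw [← MonoidHom.ker_eq_bot_iff, eq_bot_iff]
    intro x hx
    rw [MonoidHom.mem_ker] at hx
    have h1 : (x : G) ∈ W := by
      rw [← QuotientGroup.ker_mk' W, MonoidHom.mem_ker]
      exact hx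
    have h2 : (x : G) ∈ W ⊓ centralizer ({z} : Set G) := ⟨h1, x.2⟩
    rw [h0, mem_bot] at h2
    rw [mem_bot]
    exact Subtype.ext h2
  have hr : f.range = (centralizer ({z} : Set G)).map (QuotientGroup.mk' W) := by
    rw [MonoidHom.range_comp, Subgroup.range_subtype]
  rw [centralizer_mk W hW hz, ← hr]
  exact h.of_equiv (MonoidHom.ofInjective hf)

theorem orderOf_mk (W : Subgroup G) [hWn : W.Normal] (hW : (Nat.card W).Coprime p) {z : G} (hz : orderOf z = p) :
    orderOf (QuotientGroup.mk' W z) = p := by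
  refine orderOf_eq_prime ?_ ?_
  · rw [← map_pow, ← hz, pow_orderOf_eq_one, map_one]
  · intro h
    rw [← MonoidHom.mem_ker, QuotientGroup.ker_mk'] at h
    have h1 : orderOf (⟨z, h⟩ : W) ∣ Nat.card W := orderOf_dvd_natCard _
    rw [Subgroup.orderOf_mk, hz] at h1
    exact hp.out.one_lt.ne' (Nat.eq_one_of_dvd_coprimes hW h1 dvd_rfl)

theorem normalizer_le_normalizer_centralizer {X : Type*} [Group X] (L : Subgroup X) :
    normalizer (L : Set X) ≤ normalizer ((centralizer (L : Set X) : Subgroup X) : Set X) := by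
  intro g hg
  rw [mem_normalizer_iff] at hg ⊢
  have key : ∀ g : X, (∀ l, l ∈ (L : Set X) ↔ g * l * g⁻¹ ∈ (L : Set X)) → ∀ c ∈ centralizer (L : Set X),
      g * c * g⁻¹ ∈ centralizer (L : Set X) := by
    intro g hg c hc
    rw [mem_centralizer_iff] at hc ⊢
    intro l hl
    have h3 : g⁻¹ * l * g ∈ (L : Set X) := by
      rw [hg]
      have : g * (g⁻¹ * l * g) * g⁻¹ = l := by group
      rw [this]
      exact hl
    have h4 := hc _ h3
    calc l * (g * c * g⁻¹) = g * ((g⁻¹ * l * g) * c) * g⁻¹ := by group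
      _ = g * (c * (g⁻¹ * l * g)) * g⁻¹ := by rw [h4]
      _ = g * c * g⁻¹ * l := by group
  intro c
  refine ⟨key g hg c, fun h => ?_⟩
  have h5 := key g⁻¹ (by
    intro l
    rw [SetLike.mem_coe, SetLike.mem_coe, hg (g⁻¹ * l * g⁻¹⁻¹)]
    have : g * (g⁻¹ * l * g⁻¹⁻¹) * g⁻¹ = l := by group
    rw [this]) _ h
  have : g⁻¹ * (g * c * g⁻¹) * g⁻¹⁻¹ = c := by group
  rwa [this] at h5

/-- the centraliser of `L` is trivial as soon as it is a `p'`-group -/
theorem centralizer_eq_bot {L : Subgroup G} {S : Sylow p G} (hS : (S : Subgroup G) ≤ normalizer (L : Set G))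
    (hC : ¬ p ∣ Nat.card ↥(centralizer (L : Set G))) {z : G} (hzL : z ∈ L)
    (hSz : (S : Subgroup G) ≤ centralizer ({z} : Set G)) (hcp : CP p ↥(centralizer ({z} : Set G))) :
    centralizer (L : Set G) = ⊥ := by
  refine eq_bot_of_cp_le hcp (centralizer_le (by simpa using hzL)) ?_ hC
  -- `O_p(C(z)) ≤ S ≤ N(L)`
  have h1 : (pCore p ↥(centralizer ({z} : Set G))).map (centralizer ({z} : Set G)).subtype ≤ (S : Subgroup G) := by
    have h2 := Lib.Cores.pCore_le_sylow (S.subtype hSz)
    rintro _ ⟨y, hy, rfl⟩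
    have h3 := h2 hy
    exact mem_subgroupOf.1 (show y ∈ (S : Subgroup G).subgroupOf (centralizer ({z} : Set G)) from h3)
  exact (h1.trans hS).trans (normalizer_le_normalizer_centralizer L)

/-- transport of `Quad` -/
theorem quad_map {X Y : Type*} [Group X] [Group Y] (f : X →* Y) {p : ℕ} {L : Subgroup X} {z : X} (h : Quad p L z) :
    Quad p (L.map f) (f z) := by
  obtain ⟨x, hx, y, hy, k, hk, h1, h2, h3, h4, h5, h6, h7, h8⟩ := h
  refine ⟨f x, ⟨x, hx, rfl⟩, f y, ⟨y, hy, rfl⟩, f k, ⟨k, hk, rfl⟩, ?_, ?_, ?_, h4.map f, h5.map f, h6.map f, ?_, ?_⟩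
  · rw [← map_pow, h1, map_one]
  · rw [← map_pow, h2, map_one]
  · rw [h3, map_commutatorElement]
  · rw [← map_inv, ← map_mul, ← map_mul, h7, map_inv]
  · rw [← map_inv, ← map_mul, ← map_mul, h8, map_inv]

theorem quad_subgroupOf {X : Type*} [Group X] {p : ℕ} {L K : Subgroup X} (hLK : L ≤ K) {z : X} (hz : z ∈ K)
    (h : Quad p L z) : Quad p (L.subgroupOf K) (⟨z, hz⟩ : K) := by
  obtain ⟨x, hx, y, hy, k, hk, h1, h2, h3, h4, h5, h6, h7, h8⟩ := h
  refine ⟨⟨x, hLK hx⟩, hx, ⟨y, hLK hy⟩, hy, ⟨k, hLK hk⟩, hk, Subtype.ext h1, Subtype.ext h2, Subtype.ext h3,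
    Subtype.ext h4, Subtype.ext h5, Subtype.ext h6, Subtype.ext h7, Subtype.ext h8⟩

/-- `Loc` in a normal subgroup -/
theorem loc_of_local {K : Subgroup G} (hK : K.Normal) (h : ∀ x : G, orderOf x = p → CP p ↥(centralizer ({x} : Set G))) :
    Loc p K := by
  intro x hx
  rw [← Subgroup.orderOf_coe] at hx
  have h1 := h _ hx
  have h2 : (K.subgroupOf (centralizer ({(x : G)} : Set G))).Normal := inferInstance
  have h3 := h1.normal (K.subgroupOf (centralizer ({(x : G)} : Set G)))
  have e1 : (K.subgroupOf (centralizer ({(x : G)} : Set G))).map (centralizer ({(x : G)} : Set G)).subtype =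
      (centralizer ({x} : Set K)).map K.subtype := by
    ext y
    constructor
    · rintro ⟨w, hw, rfl⟩
      refine ⟨⟨w, hw⟩, ?_, rfl⟩
      rw [SetLike.mem_coe, mem_centralizer_singleton_iff]
      exact Subtype.ext (mem_centralizer_singleton_iff.1 w.2)
    · rintro ⟨w, hw, rfl⟩
      rw [SetLike.mem_coe, mem_centralizer_singleton_iff] at hw
      refine ⟨⟨w, ?_⟩, w.2, rfl⟩
      rw [mem_centralizer_singleton_iff]
      exact congrArg Subtype.val hw
  have e2 := (K.subgroupOf (centralizer ({(x : G)} : Set G))).equivMapOfInjective _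
    (centralizer ({(x : G)} : Set G)).subtype_injective
  have e3 := (centralizer ({x} : Set K)).equivMapOfInjective _ K.subtype_injective
  exact (h3.of_equiv e2).of_equiv ((MulEquiv.subgroupCongr e1).trans e3.symm)

/-- **The reduction, `O_{p'}(G) = 1`.** -/
theorem core {L : Subgroup G} {S : Sylow p G} (hS : (S : Subgroup G) ≤ normalizer (L : Set G))
    (hs : IsSimpleGroup ↥L) (hna : ¬ IsMulCommutative ↥L) (hrank : IsLieRankAtLeastTwoChar p ↥L)
    (hC : ¬ p ∣ Nat.card ↥(centralizer (L : Set G))) {z : G} (hzL : z ∈ L) (hz : orderOf z = p)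
    (hSz : (S : Subgroup G) ≤ centralizer ({z} : Set G)) (hcp : CP p ↥(centralizer ({z} : Set G)))
    (hO : ∀ W : Subgroup G, W.Normal → W ≠ ⊥ → p ∣ Nat.card W) :
    ∃ K : Subgroup G, K.Normal ∧ IsSimpleGroup ↥K ∧ ¬ IsMulCommutative ↥K ∧ centralizer (K : Set G) = ⊥ ∧
      generalizedFittingSubgroup G = K ∧ ∃ hLK : L ≤ K, Emb p (L.subgroupOf K) ⟨z, hLK hzL⟩ := by
  have hC1 := centralizer_eq_bot hS hC hzL hSz hcp
  have hidx : ¬ p ∣ (normalizer (L : Set G)).index := fun h => S.not_dvd_index (h.trans (index_dvd_of_le hS))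
  obtain ⟨K, hKn, hKs, hKna, hLK, hKC, hF⟩ := H245.Red.main (p := p) hidx le_rfl hs hna hC1 hO
  refine ⟨K, hKn, hKs, hKna, hKC, hF, hLK, ?_⟩
  have e : ↥(L.subgroupOf K) ≃* ↥L := subgroupOfEquivOfLe hLK
  refine ⟨e.isSimpleGroup_congr.2 hs, H238.isLieRankAtLeastTwoChar_congr e.symm hrank, hzL, ?_, ?_, ?_, ?_⟩
  · rw [Subgroup.orderOf_mk, hz]
  · have h2 : (K.subgroupOf (centralizer ({z} : Set G))).Normal := inferInstance
    have h3 := hcp.normal (K.subgroupOf (centralizer ({z} : Set G)))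
    have e1 : (K.subgroupOf (centralizer ({z} : Set G))).map (centralizer ({z} : Set G)).subtype =
        (centralizer ({(⟨z, hLK hzL⟩ : K)} : Set K)).map K.subtype := by
      ext y
      constructor
      · rintro ⟨w, hw, rfl⟩
        refine ⟨⟨w, hw⟩, ?_, rfl⟩
        rw [SetLike.mem_coe, mem_centralizer_singleton_iff]
        exact Subtype.ext (mem_centralizer_singleton_iff.1 w.2)
      · rintro ⟨w, hw, rfl⟩
        rw [SetLike.mem_coe, mem_centralizer_singleton_iff] at hw
        refine ⟨⟨w, ?_⟩, w.2, rfl⟩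
        rw [mem_centralizer_singleton_iff]
        exact congrArg Subtype.val hw
    have e2 := (K.subgroupOf (centralizer ({z} : Set G))).equivMapOfInjective _
      (centralizer ({z} : Set G)).subtype_injective
    have e3 := (centralizer ({(⟨z, hLK hzL⟩ : K)} : Set K)).equivMapOfInjective _ K.subtype_injective
    exact (h3.of_equiv e2).of_equiv ((MulEquiv.subgroupCongr e1).trans e3.symm)
  · obtain ⟨Q, hQ⟩ := S0542.result p K hKn.isSubnormal S
    refine ⟨Q, ?_, ?_⟩
    · rw [hQ]
      intro x hx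
      have h1 := hS (mem_subgroupOf.1 hx)
      rw [mem_normalizer_iff] at h1 ⊢
      intro y
      exact h1 y
    · rw [hQ]
      intro x hx
      have h1 := hSz (mem_subgroupOf.1 hx)
      rw [mem_centralizer_singleton_iff] at h1 ⊢
      exact Subtype.ext h1
  · have h1 : centralizer ((L.subgroupOf K : Subgroup K) : Set K) = ⊥ := by
      rw [eq_bot_iff]
      intro x hx
      have h2 : (x : G) ∈ centralizer (L : Set G) := by
        rw [mem_centralizer_iff] at hx ⊢
        intro l hl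
        exact congrArg Subtype.val (hx ⟨l, hLK hl⟩ hl)
      rw [hC1, mem_bot] at h2
      rw [mem_bot]
      exact Subtype.ext h2
    rw [h1, Subgroup.card_bot]
    exact hp.out.one_lt.ne' ∘ Nat.dvd_one.1

/-- `G / O_{p'}(G)` -/
theorem quot_core [hn : (pPrimeCore p G).Normal] (V : Subgroup (G ⧸ pPrimeCore p G)) (hV : V.Normal) (hV1 : V ≠ ⊥) :
    p ∣ Nat.card V := by
  by_contra h
  apply hV1
  rw [eq_bot_iff]
  have h1 := Lib.Cores.pPrimeCore_quotient_pPrimeCore (G := G) p
  rw [← h1]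
  exact Lib.Cores.le_pPrimeCore hV (((Nat.Prime.coprime_iff_not_dvd hp.out).2 h).symm)

/-- a simple subgroup of order divisible by `p` meets a normal `p'`-subgroup trivially -/
theorem disj {L W : Subgroup G} (hWn : W.Normal) (hW : ¬ p ∣ Nat.card W) (hs : IsSimpleGroup ↥L) {z : G} (hzL : z ∈ L)
    (hz : orderOf z = p) : L ⊓ W = ⊥ := by
  rcases H245.Red.simple_cases hs (inf_le_left : L ⊓ W ≤ L) (Lib.MinNormal.le_normalizer_inf L.le_normalizer (by
    rw [normalizer_eq_top_iff.2 hWn]; exact le_top)) with h | h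
  · exact h
  · exfalso
    apply hW
    have h1 : z ∈ W := by
      have : z ∈ L ⊓ W := by rw [h]; exact hzL
      exact this.2
    have h2 : orderOf (⟨z, h1⟩ : W) ∣ Nat.card W := orderOf_dvd_natCard _
    rwa [Subgroup.orderOf_mk, hz] at h2

/-- **The reduction in `G / O_{p'}(G)`.** -/
theorem main (W : Subgroup G) [hWn : W.Normal] (hW : (Nat.card W).Coprime p)
    (hO : ∀ V : Subgroup (G ⧸ W), V.Normal → V ≠ ⊥ → p ∣ Nat.card V)
    {L : Subgroup G} {S : Sylow p G} (hS : (S : Subgroup G) ≤ normalizer (L : Set G))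
    (hs : IsSimpleGroup ↥L) (hna : ¬ IsMulCommutative ↥L) (hrank : IsLieRankAtLeastTwoChar p ↥L)
    (hC : ¬ p ∣ Nat.card ↥(centralizer (L : Set G))) {z : G} (hzL : z ∈ L) (hz : orderOf z = p)
    (hSz : (S : Subgroup G) ≤ centralizer ({z} : Set G)) (hcp : CP p ↥(centralizer ({z} : Set G))) :
    ∃ K : Subgroup (G ⧸ W), K.Normal ∧ IsSimpleGroup ↥K ∧ ¬ IsMulCommutative ↥K ∧
      centralizer (K : Set (G ⧸ W)) = ⊥ ∧ generalizedFittingSubgroup (G ⧸ W) = K ∧
      Nonempty (↥L ≃* ↥(L.map (QuotientGroup.mk' W))) ∧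
      ∃ hLK : L.map (QuotientGroup.mk' W) ≤ K,
        Emb p ((L.map (QuotientGroup.mk' W)).subgroupOf K) ⟨QuotientGroup.mk' W z, hLK ⟨z, hzL, rfl⟩⟩ := by
  have hW' : ¬ p ∣ Nat.card W := fun h1 => hp.out.one_lt.ne' (Nat.eq_one_of_dvd_coprimes hW h1 dvd_rfl)
  have hd := disj hWn hW' hs hzL hz
  let f : ↥L →* G ⧸ W := (QuotientGroup.mk' W).comp L.subtype
  have hf : Function.Injective f := by
    rw [← MonoidHom.ker_eq_bot_iff, eq_bot_iff]
    intro x hx
    rw [MonoidHom.mem_ker] at hx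
    have h1 : (x : G) ∈ W := by
      rw [← QuotientGroup.ker_mk' W, MonoidHom.mem_ker]
      exact hx
    have h2 : (x : G) ∈ L ⊓ W := ⟨x.2, h1⟩
    rw [hd, mem_bot] at h2
    rw [mem_bot]
    exact Subtype.ext h2
  have hr : f.range = L.map (QuotientGroup.mk' W) := by
    rw [MonoidHom.range_comp, Subgroup.range_subtype]
  have e : ↥L ≃* ↥(L.map (QuotientGroup.mk' W)) := (MonoidHom.ofInjective hf).trans (MulEquiv.subgroupCongr hr)
  let S' : Sylow p (G ⧸ W) := S.mapSurjective (QuotientGroup.mk'_surjective W)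
  have hS' : (S' : Subgroup (G ⧸ W)) = (S : Subgroup G).map (QuotientGroup.mk' W) := Sylow.coe_mapSurjective _ _
  have hSN : (S' : Subgroup (G ⧸ W)) ≤ normalizer ((L.map (QuotientGroup.mk' W) : Subgroup (G ⧸ W)) : Set (G ⧸ W)) := by
    rw [hS']
    exact (Subgroup.map_mono hS).trans (Subgroup.le_normalizer_map _)
  have hna' : ¬ IsMulCommutative ↥(L.map (QuotientGroup.mk' W)) := by
    intro h
    apply hna
    refine ⟨⟨fun a b => e.injective ?_⟩⟩
    rw [map_mul, map_mul]
    exact h.is_comm.comm _ _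
  have hC' : ¬ p ∣ Nat.card ↥(centralizer ((L.map (QuotientGroup.mk' W) : Subgroup (G ⧸ W)) : Set (G ⧸ W))) := by
    intro h
    have hSC : (S' : Subgroup (G ⧸ W)) ≤
        normalizer ((centralizer ((L.map (QuotientGroup.mk' W) : Subgroup (G ⧸ W)) : Set (G ⧸ W)) :
          Subgroup (G ⧸ W)) : Set (G ⧸ W)) :=
      hSN.trans (normalizer_le_normalizer_centralizer _)
    refine H245.RedTwo.inf_ne_bot_of_le_normalizer S' hSC h ?_
    rw [eq_bot_iff]
    rintro x ⟨hx1, hx2⟩
    rw [SetLike.mem_coe, hS'] at hx1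
    obtain ⟨s, hs1, rfl⟩ := hx1
    -- `s` centralises `L`
    have h1 : s ∈ centralizer (L : Set G) := by
      rw [mem_centralizer_iff]
      intro l hl
      have h2 : QuotientGroup.mk' W l * QuotientGroup.mk' W s = QuotientGroup.mk' W s * QuotientGroup.mk' W l :=
        mem_centralizer_iff.1 hx2 _ ⟨l, hl, rfl⟩
      have h3 : s * l * s⁻¹ * l⁻¹ ∈ L ⊓ W := by
        have h31 : s * l * s⁻¹ * l⁻¹ ∈ L := mul_mem ((mem_normalizer_iff.1 (hS hs1) l).1 hl) (inv_mem hl)
        have h32 : s * l * s⁻¹ * l⁻¹ ∈ W := by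
          rw [← QuotientGroup.ker_mk' W, MonoidHom.mem_ker]
          simp only [map_mul, map_inv]
          rw [← h2]
          group
        exact ⟨h31, h32⟩
      rw [hd, mem_bot, mul_inv_eq_one, mul_inv_eq_iff_eq_mul] at h3
      exact h3.symm
    have h4 : orderOf (⟨s, h1⟩ : ↥(centralizer (L : Set G))) ∣ Nat.card ↥(centralizer (L : Set G)) :=
      orderOf_dvd_natCard _
    rw [Subgroup.orderOf_mk] at h4
    obtain ⟨k, hk⟩ := (IsPGroup.iff_orderOf.mp S.isPGroup') ⟨s, hs1⟩
    rw [Subgroup.orderOf_mk] at hk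
    rcases Nat.eq_zero_or_pos k with h0 | h0
    · rw [h0, pow_zero, orderOf_eq_one_iff] at hk
      rw [hk, map_one]
      exact one_mem _
    · exact absurd ((dvd_pow_self p h0.ne').trans (hk ▸ h4)) hC
  obtain ⟨K, h1, h2, h3, h4, h5, h6, h7⟩ := core (S := S') hSN (e.isSimpleGroup_congr.1 hs) hna'
    (H238.isLieRankAtLeastTwoChar_congr e hrank) hC' (z := QuotientGroup.mk' W z) ⟨z, hzL, rfl⟩ (orderOf_mk W hW hz)
    (by
      rw [hS', centralizer_mk W hW hz]
      exact Subgroup.map_mono hSz)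
    (cp_mk W hW hz hcp) hO
  exact ⟨K, h1, h2, h3, h4, h5, ⟨e⟩, h6, h7⟩

end Cfsg.Agent.H226.ParRed
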