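import Cfsg.Agent.H519.LieRank
import Cfsg.Agent.H612.CharTwo
import Cfsg.Agent.H237.AltChev
import Cfsg.Agent.S2936
import Cfsg.Agent.S0314
import Cfsg.Agent.H226.ParRed

/-!
# Generation of a group of Lie type by the normalisers of the normal subgroups of a Sylow subgroup (helper226)

* `rank_cases` : `IsLieTypeChar p K`, `p ≠ 2`: `K` has a split (B,N)-pair of rank at least two or is of Lie rank one;
* `gen` : `K` of Lie type in characteristic `p ≠ 2` of Lie rank at least two, `P` a Sylow `p`-subgroup: `K` is generated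
  by the `N_K(Q)`, `Z(P) ≤ Q ⊴ P`.
-/

set_option autoImplicit false
set_option linter.unusedSectionVars false

namespace Cfsg.Agent.H226.Gen

open Subgroup Cfsg
open Cfsg.Agent.H239.CharPLocal (CP)
open Cfsg.Agent.FixBN Cfsg.Agent.H519.LieRank Cfsg.Agent.Omega.ML.Ex.Typ

universe u

section

variable {K : Type u} [Group K] [Finite K] {p : ℕ} [hp : Fact p.Prime]

/-- the case division, odd characteristic -/
theorem rank_cases (hs : IsSimpleGroup K) (hp2 : p ≠ 2) (hK : IsLieTypeChar p K) :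
    HasRank p K ∨ IsLieRankOneChar p K := by
  rcases hK with h | h | h | h | h | h | h | h | h | h | h
  · obtain ⟨F, i1, i2, i3, n, hn, h3, ⟨e⟩⟩ := h
    by_cases hn2 : n = 2
    · subst hn2
      exact Or.inr (Or.inl ⟨F, i1, i2, i3, h3 rfl, ⟨e⟩⟩)
    · obtain ⟨n, rfl⟩ : ∃ k, n = k + 1 := ⟨n - 1, by omega⟩
      exact Or.inl (hasRank_of_typ hp.1 (by omega) ((typ_PSL n).of_equiv e.symm))
  · obtain ⟨F, i1, i2, i3, m, hm, -, ⟨e⟩⟩ := h
    exact Or.inl (hasRank_of_typ hp.1 hm ((typ_PSp (by omega)).of_equiv e.symm))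
  · obtain ⟨F, i1, i2, i3, n, q, hF, hn, -, ⟨e⟩⟩ := h
    by_cases hn3 : n = 3
    · subst hn3
      refine Or.inr (Or.inr (Or.inl ⟨F, i1, i2, i3, q, hF, ?_, ⟨e⟩⟩))
      rintro rfl
      have h4 : p ∣ 2 ^ 2 := by
        rw [← hF]
        obtain ⟨k, -, hk⟩ := FiniteField.card F p
        rw [hk]
        exact dvd_pow_self p k.2.ne'
      exact hp2 ((Nat.prime_dvd_prime_iff_eq hp.1 Nat.prime_two).1 (hp.1.dvd_of_dvd_pow h4))
    · obtain ⟨m, hm, h⟩ := typ_PSU (p := p) hF hn
      exact Or.inl (hasRank_of_typ hp.1 (by omega) (h.of_equiv e.symm))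
  · obtain ⟨F, i1, i2, i3, m, hm, hodd, ⟨e⟩⟩ := h
    have h2 : (2 : F) ≠ 0 := by
      intro h2
      have h3 : CharP F 2 := CharTwo.of_one_ne_zero_of_two_eq_zero one_ne_zero h2
      exact hp2 (CharP.eq F i3 h3)
    exact Or.inl (hasRank_of_typ hp.1 (by omega) ((typ_PO_odd h2 (by omega)).of_equiv e.symm))
  · obtain ⟨F, i1, i2, i3, m, hm, ⟨e⟩⟩ := h
    obtain ⟨n, rfl⟩ : ∃ n, m = n + 3 := ⟨m - 3, by omega⟩
    exact Or.inl (hasRank_of_typ hp.1 (by omega) ((typ_PO_plus n).of_equiv e.symm))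
  · obtain ⟨F, i1, i2, i3, m, a, b, hm, hab, ⟨e⟩⟩ := h
    exact Or.inl (hasRank_of_typ hp.1 (by omega) ((typ_PO_minus hab (by omega)).of_equiv e.symm))
  · rcases typ_of_exc h with h | h | h | h | h
    · exact Or.inl (hasRank_of_typ hp.1 (by omega) h)
    · exact Or.inl (hasRank_of_typ hp.1 (by omega) h)
    · exact Or.inl (hasRank_of_typ hp.1 (by omega) h)
    · exact Or.inl (hasRank_of_typ hp.1 (by omega) h)
    · exact Or.inl (hasRank_of_typ hp.1 (by omega) h)
  · obtain ⟨F, i1, i2, i3, q, hq, ⟨hK, ⟨e⟩⟩ | ⟨hK, ⟨e⟩⟩⟩ := h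
    · exact Or.inl (hasRank_of_typ hp.1 (by omega) ((typ_twE6 hq hK p).of_equiv e.symm))
    · exact Or.inl (hasRank_of_typ hp.1 (by omega) ((typ_twD4 hq hK p).of_equiv e.symm))
  · exact absurd h.1 hp2
  · exact absurd h.1 hp2
  · exact Or.inr (Or.inr (Or.inr (Or.inr ⟨h.1, Or.inl h.2⟩)))

/-- rank at least two, odd characteristic: a split (B,N)-pair of rank at least two -/
theorem hasRank (hs : IsSimpleGroup K) (hp2 : p ≠ 2) (hK : IsLieRankAtLeastTwoChar p K) : HasRank p K := by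
  rcases hK.1 with h | ⟨h, -⟩ | ⟨h1, h2⟩
  · rcases rank_cases hs hp2 h with h | h
    · exact h
    · exact absurd h hK.2
  · exact absurd h hp2
  · exact absurd (Or.inr (Or.inr (Or.inr ⟨h1, Or.inr h2⟩))) hK.2

/-- `C_K(x)` has characteristic `p` -/
theorem cp_centralizer (hs : IsSimpleGroup K) (hc : ∃ a b : K, a * b ≠ b * a) (hK : IsLieRankAtLeastTwoChar p K)
    {x : K} (hx : orderOf x = p) : CP p ↥(centralizer ({x} : Set K)) :=
  ParRed.cp_centralizer_of_cp_normalizer (H237.AltChev.cp_zpowers hs hc hK hx)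

/-- `p`-local subgroups have characteristic `p` -/
theorem cp_normalizer (hs : IsSimpleGroup K) (hc : ∃ a b : K, a * b ≠ b * a) (hK : IsLieRankAtLeastTwoChar p K)
    {Q : Subgroup K} (hQ : IsPGroup p Q) (hQ1 : Q ≠ ⊥) : CP p ↥(normalizer (Q : Set K)) := by
  have hnt : Nontrivial Q := (Subgroup.nontrivial_iff_ne_bot Q).2 hQ1
  have h1 : Nontrivial (center Q) := hQ.center_nontrivial
  obtain ⟨n, hn0, hn⟩ := (hQ.to_subgroup (center Q)).nontrivial_iff_card.1 h1
  obtain ⟨w, hw⟩ := exists_prime_orderOf_dvd_card' (G := ↥(center Q)) p (by rw [hn]; exact dvd_pow_self p hn0.ne')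
  refine H239.CharPLocal.cp_normalizer_of_centralizer hQ (z := ((w : Q) : K)) (w : Q).2 ?_
    (cp_centralizer hs hc hK ?_)
  · intro x hx
    exact congrArg Subtype.val (mem_center_iff.1 w.2 ⟨x, hx⟩)
  · rw [Subgroup.orderOf_coe, Subgroup.orderOf_coe, hw]

end

section

variable {K : Type u} [Group K] [Finite K] {p : ℕ} [hp : Fact p.Prime]

/-- the `p`-core of a minimal parabolic: nontrivial, contains the centre of `U` -/
theorem core_parabolic (hs : IsSimpleGroup K) (hc : ∃ a b : K, a * b ≠ b * a) (hK : IsLieRankAtLeastTwoChar p K)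
    {M : Subgroup K} (hMt : M ≠ ⊤) {P : Sylow p K} (hPM : (P : Subgroup K) ≤ M) :
    ∃ Q : Subgroup K, Q ≠ ⊥ ∧ Q ≤ (P : Subgroup K) ∧ M ≤ normalizer (Q : Set K) ∧
      ∀ z ∈ (P : Subgroup K), (∀ x ∈ (P : Subgroup K), x * z = z * x) → z ∈ Q := by
  set Q : Subgroup K := (pCore p ↥M).map M.subtype with hQ
  have hQp : IsPGroup p Q := (Lib.Cores.pCore_isPGroup p).map _
  have hidx : ¬ p ∣ M.index := fun h => P.not_dvd_index (h.trans (index_dvd_of_le hPM))
  have hQ1 : Q ≠ ⊥ := by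
    intro h
    apply hMt
    apply S2936.result hK.1 M _ hidx
    rw [hQ, Subgroup.map_eq_bot_iff_of_injective _ M.subtype_injective] at h
    exact h
  have hMQ : M ≤ normalizer (Q : Set K) := Lib.LocalCore.le_normalizer_map_pCore p M
  have hQP : Q ≤ (P : Subgroup K) := by
    have h2 := Lib.Cores.pCore_le_sylow (P.subtype hPM)
    rintro _ ⟨y, hy, rfl⟩
    have h3 := h2 hy
    exact mem_subgroupOf.1 (show y ∈ (P : Subgroup K).subgroupOf M from h3)
  refine ⟨Q, hQ1, hQP, hMQ, ?_⟩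
  intro z hz hzc
  have hcp := cp_normalizer hs hc hK hQp hQ1
  set N := normalizer (Q : Set K) with hN
  -- `O_p(N) ≤ Q`
  have hON : (pCore p ↥N).map N.subtype ≤ (P : Subgroup K) := by
    have h2 := Lib.Cores.pCore_le_sylow (P.subtype (hPM.trans hMQ))
    rintro _ ⟨y, hy, rfl⟩
    have h3 := h2 hy
    exact mem_subgroupOf.1 (show y ∈ (P : Subgroup K).subgroupOf N from h3)
  have hOM : (pCore p ↥N).map N.subtype ≤ Q := by
    refine Lib.LocalCore.le_map_pCore (hON.trans hPM) ?_ ?_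
    · exact (Lib.Cores.pCore_isPGroup p).map _
    · exact hMQ.trans (Lib.LocalCore.le_normalizer_map_pCore p N)
  have hzN : z ∈ N := hMQ (hPM hz)
  have h1 : (⟨z, hzN⟩ : N) ∈ centralizer (pCore p ↥N : Set ↥N) := by
    rw [mem_centralizer_iff]
    intro y hy
    exact Subtype.ext (hzc _ (hON ⟨y, hy, rfl⟩))
  have h2 := hcp h1
  exact hOM ⟨_, h2, rfl⟩

/-- **Generation.** -/
theorem gen (hs : IsSimpleGroup K) (hc : ∃ a b : K, a * b ≠ b * a) (hp2 : p ≠ 2) (hK : IsLieRankAtLeastTwoChar p K)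
    (P : Sylow p K) {X : Subgroup K}
    (hX : ∀ Q : Subgroup K, Q ≠ ⊥ → Q ≤ (P : Subgroup K) → (P : Subgroup K) ≤ normalizer (Q : Set K) →
      (∀ z ∈ (P : Subgroup K), (∀ x ∈ (P : Subgroup K), x * z = z * x) → z ∈ Q) → normalizer (Q : Set K) ≤ X) :
    X = ⊤ := by
  obtain ⟨B, U, hB, s, t, hst⟩ := hasRank hs hp2 hK
  obtain ⟨R, hR⟩ := H612.CharTwo.exists_sylow hB
  obtain ⟨g, hg⟩ := MulAction.exists_smul_eq K R P
  have hcj : ∀ M : Subgroup K, (R : Subgroup K) ≤ M → (P : Subgroup K) ≤ M.map (MulAut.conj g).toMonoidHom := by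
    intro M hM
    rw [← hg, Sylow.coe_subgroup_smul]
    exact Subgroup.map_mono hM
  have key : ∀ r : B.S, (B.parabolic {(r : K)}).map (MulAut.conj g).toMonoidHom ≤ X := by
    intro r
    have hne : B.parabolic {(r : K)} ≠ ⊤ := by
      intro h
      have hS : B.parabolic B.S = ⊤ := by
        rw [eq_top_iff, ← B.sup_eq_top]
        unfold BNPair.parabolic
        refine sup_le le_sup_left ?_
        rw [← B.closure_sup]
        exact sup_le le_sup_right (inf_le_left.trans le_sup_left)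
      have h1 : ({(r : K)} : Set K) = B.S :=
        S0314.result B (Set.singleton_subset_iff.2 r.2) subset_rfl (by rw [h, hS])
      apply hst
      have h2 : (s : K) = r := h1.ge s.2
      have h3 : (t : K) = r := h1.ge t.2
      exact Subtype.ext (h2.trans h3.symm)
    have hRM : (R : Subgroup K) ≤ B.parabolic {(r : K)} := by
      rw [hR]
      exact hB.le.trans le_sup_left
    obtain ⟨Q, h1, h2, h3, h4⟩ := core_parabolic hs hc hK
      (M := (B.parabolic {(r : K)}).map (MulAut.conj g).toMonoidHom) (by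
        intro h
        apply hne
        rw [eq_top_iff]
        intro x _
        have hx : MulAut.conj g x ∈ (B.parabolic {(r : K)}).map (MulAut.conj g).toMonoidHom := by rw [h]; trivial
        obtain ⟨y, hy, hyx⟩ := hx
        have : y = x := (MulAut.conj g).injective hyx
        rwa [← this]) (P := P) (hcj _ hRM)
    exact h3.trans (hX Q h1 h2 ((hcj _ hRM).trans h3) h4)
  have h5 : (⊤ : Subgroup K) ≤ X.comap (MulAut.conj g).toMonoidHom := by
    rw [← B.sup_eq_top, ← B.closure_sup]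
    have hBX : B.B ≤ X.comap (MulAut.conj g).toMonoidHom := by
      rw [← Subgroup.map_le_iff_le_comap]
      refine le_trans (Subgroup.map_mono ?_) (key s)
      exact le_sup_left
    refine sup_le hBX (sup_le ?_ (inf_le_left.trans hBX))
    rw [closure_le]
    intro r hr
    have h6 := key ⟨r, hr⟩
    rw [Subgroup.map_le_iff_le_comap] at h6
    apply h6
    exact le_sup_right (a := B.B) (subset_closure rfl)
  rw [eq_top_iff]
  intro x _
  have h6 : g⁻¹ * x * g ∈ X.comap (MulAut.conj g).toMonoidHom := h5 trivial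
  rw [mem_comap] at h6
  have h7 : (MulAut.conj g).toMonoidHom (g⁻¹ * x * g) = x := by
    change g * (g⁻¹ * x * g) * g⁻¹ = x
    group
  rwa [h7] at h6

end

end Cfsg.Agent.H226.Gen
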