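import Mathlib

/-!
# Faithful `F₂`-modules of dimension 6 for a group of order 81 (helper226)

`no_fix` : a central element of order 3 acts without fixed points.
-/

set_option autoImplicit false
set_option linter.unusedSectionVars false

namespace Cfsg.Agent.H226.KillRep

open Module

variable {F V : Type*} [Field F] [AddCommGroup V] [Module F V]

/-- the order of `GL_n(q)` -/
def glc (q n : ℕ) : ℕ := ∏ i : Fin n, (q ^ n - q ^ (i : ℕ))

theorem card_units_end [Fintype F] [FiniteDimensional F V] :
    Nat.card (Module.End F V)ˣ = glc (Fintype.card F) (finrank F V) := by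
  have e : (Module.End F V)ˣ ≃* GL (Fin (finrank F V)) F :=
    Units.mapEquiv (LinearMap.toMatrixAlgEquiv (Module.finBasis F V)).toRingEquiv.toMulEquiv
  rw [Nat.card_congr e.toEquiv, Matrix.card_GL_field]
  rfl

section

variable {H : Type*} [Group H] (σ : H →* Module.End F V)

/-- the action on an invariant subspace -/
def res (C : Submodule F V) (hC : ∀ g, ∀ v ∈ C, σ g v ∈ C) : H →* Module.End F C where
  toFun g := (σ g).restrict (hC g)
  map_one' := by
    ext v
    simp
  map_mul' g g' := by
    ext v
    simp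

theorem res_apply (C : Submodule F V) (hC : ∀ g, ∀ v ∈ C, σ g v ∈ C) (g : H) (v : C) :
    (res σ C hC g v : V) = σ g v := rfl

theorem card_dvd [Finite H] [Fintype F] [FiniteDimensional F V] (hσ : Function.Injective σ) :
    Nat.card H ∣ glc (Fintype.card F) (finrank F V) := by
  rw [← card_units_end (F := F) (V := V)]
  have hfin : Finite V := Module.finite_of_finite F
  have : Finite (Module.End F V) := Finite.of_injective (fun g => (g : V → V)) DFunLike.coe_injective
  refine Subgroup.card_dvd_of_injective σ.toHomUnits ?_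
  intro a b hab
  exact hσ (congrArg Units.val hab)

theorem dvd_of_decomp [Finite H] [Fintype F] [FiniteDimensional F V] (hσ : Function.Injective σ) {C D : Submodule F V}
    (hC : ∀ g, ∀ v ∈ C, σ g v ∈ C) (hD : ∀ g, ∀ v ∈ D, σ g v ∈ D) (hsup : C ⊔ D = ⊤) :
    Nat.card H ∣ glc (Fintype.card F) (finrank F C) * glc (Fintype.card F) (finrank F D) := by
  have hfin : Finite V := Module.finite_of_finite F
  have : Finite (Module.End F C) := Finite.of_injective (fun g => (g : C → C)) DFunLike.coe_injective
  have : Finite (Module.End F D) := Finite.of_injective (fun g => (g : D → D)) DFunLike.coe_injective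
  rw [← card_units_end (F := F) (V := C), ← card_units_end (F := F) (V := D), ← Nat.card_prod]
  refine Subgroup.card_dvd_of_injective ((res σ C hC).toHomUnits.prod (res σ D hD).toHomUnits) ?_
  intro a b hab
  apply hσ
  have h1 : ∀ c ∈ C, σ a c = σ b c := by
    intro c hc
    have h2 : (res σ C hC a) = (res σ C hC b) := congrArg (fun x : (Module.End F C)ˣ × (Module.End F D)ˣ => x.1.1) hab
    have h3 := LinearMap.congr_fun h2 ⟨c, hc⟩
    exact congrArg Subtype.val h3
  have h2 : ∀ c ∈ D, σ a c = σ b c := by
    intro c hc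
    have h2 : (res σ D hD a) = (res σ D hD b) := congrArg (fun x : (Module.End F C)ˣ × (Module.End F D)ˣ => x.2.1) hab
    have h3 := LinearMap.congr_fun h2 ⟨c, hc⟩
    exact congrArg Subtype.val h3
  apply LinearMap.ext
  intro v
  have h3 : v ∈ C ⊔ D := by rw [hsup]; trivial
  obtain ⟨c, hc, d, hd, rfl⟩ := Submodule.mem_sup.1 h3
  rw [map_add, map_add, h1 c hc, h2 d hd]

/-- a central element of order 3 of a group of order 81 acts without fixed points on a faithful module of order `2⁶` -/
theorem no_fix [Finite H] [Fintype F] [FiniteDimensional F V] (hσ : Function.Injective σ) (hF : Fintype.card F = 2)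
    (h6 : finrank F V = 6) (h81 : Nat.card H = 81) {w : H} (hw : ∀ h, h * w = w * h) (hw1 : w ≠ 1) (hw3 : w ^ 3 = 1)
    {v : V} (hv : σ w v = v) : v = 0 := by
  have h2 : (2 : F) = 0 := by
    have h4 := Nat.cast_card_eq_zero F
    rw [hF] at h4
    exact_mod_cast h4
  have two : ∀ x : V, x + x = 0 := by
    intro x
    rw [← two_smul F x, h2, zero_smul]
  have w3 : ∀ x, σ w (σ w (σ w x)) = x := by
    intro x
    have h3 : σ w (σ w (σ w x)) = (σ (w ^ 3)) x := by
      rw [pow_succ, pow_succ, pow_one, map_mul, map_mul]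
      rfl
    rw [h3, hw3, map_one]
    rfl
  set C : Submodule F V := LinearMap.ker (σ w - 1) with hC
  set D : Submodule F V := LinearMap.ker (1 + σ w + σ w * σ w) with hD
  have mC : ∀ x, x ∈ C ↔ σ w x = x := by
    intro x
    rw [hC, LinearMap.mem_ker, LinearMap.sub_apply, sub_eq_zero]
    rfl
  have mD : ∀ x, x ∈ D ↔ x + σ w x + σ w (σ w x) = 0 := by
    intro x
    rw [hD, LinearMap.mem_ker]
    rfl
  have hcomm : ∀ g x, σ g (σ w x) = σ w (σ g x) := by
    intro g x
    have h3 : σ (g * w) x = σ (w * g) x := by rw [hw]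
    rw [map_mul, map_mul] at h3
    exact h3
  have iC : ∀ g, ∀ x ∈ C, σ g x ∈ C := by
    intro g x hx
    rw [mC] at hx ⊢
    rw [← hcomm, hx]
  have iD : ∀ g, ∀ x ∈ D, σ g x ∈ D := by
    intro g x hx
    rw [mD] at hx ⊢
    rw [← hcomm, ← hcomm, ← map_add, ← map_add, hx, map_zero]
  have hsup : C ⊔ D = ⊤ := by
    rw [eq_top_iff]
    intro x _
    have h3 : x = (x + σ w x + σ w (σ w x)) + (σ w x + σ w (σ w x)) := by
      have e1 := two (σ w x)
      have e2 := two (σ w (σ w x))
      have : (x + σ w x + σ w (σ w x)) + (σ w x + σ w (σ w x)) =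
        x + (σ w x + σ w x) + (σ w (σ w x) + σ w (σ w x)) := by abel
      rw [this, e1, e2, add_zero, add_zero]
    rw [h3]
    refine Submodule.add_mem_sup ?_ ?_
    · rw [mC, map_add, map_add, w3]
      abel
    · rw [mD]
      simp only [map_add, w3]
      have e0 := two x
      have e1 := two (σ w x)
      have e2 := two (σ w (σ w x))
      have : σ w x + σ w (σ w x) + (σ w (σ w x) + x) + (x + σ w x) =
        (x + x) + (σ w x + σ w x) + (σ w (σ w x) + σ w (σ w x)) := by abel
      rw [this, e0, e1, e2, add_zero, add_zero]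
  have hinf : C ⊓ D = ⊥ := by
    rw [eq_bot_iff]
    intro x hx
    have h3 := (mC x).1 hx.1
    have h4 := (mD x).1 hx.2
    rw [h3, h3, two, zero_add] at h4
    exact (Submodule.mem_bot F).2 h4
  have hcompl : IsCompl C D := ⟨disjoint_iff.2 hinf, codisjoint_iff.2 hsup⟩
  have hdim := Submodule.finrank_add_eq_of_isCompl hcompl
  rw [h6] at hdim
  have hdvd := dvd_of_decomp σ hσ iC iD hsup
  rw [h81, hF] at hdvd
  by_cases hc0 : finrank F C = 0
  · rw [Submodule.finrank_eq_zero] at hc0
    have : v ∈ C := (mC v).2 hv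
    rw [hc0] at this
    exact (Submodule.mem_bot F).1 this
  · exfalso
    by_cases hd0 : finrank F D = 0
    · apply hw1
      rw [Submodule.finrank_eq_zero] at hd0
      rw [hd0, sup_bot_eq] at hsup
      apply hσ
      apply LinearMap.ext
      intro x
      rw [map_one]
      exact (mC x).1 (by rw [hsup]; trivial)
    · obtain ⟨c, hc⟩ : ∃ c, c = finrank F C := ⟨_, rfl⟩
      obtain ⟨d, hd⟩ : ∃ d, d = finrank F D := ⟨_, rfl⟩
      rw [← hc, ← hd] at hdvd
      rw [← hc] at hc0 hdim
      rw [← hd] at hd0 hdim
      have hc5 : c ≤ 5 := by omega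
      have hd' : d = 6 - c := by omega
      subst hd'
      clear hc hd hd0 hdim
      interval_cases c
      · exact hc0 rfl
      all_goals
        revert hdvd
        decide

end

end Cfsg.Agent.H226.KillRep
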